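import Cfsg.Agent.G2S.A
import Cfsg.Agent.Syl2.G2e

/-! S1744, W0 (helper20): the frame `Fg` for a Sylow 2-subgroup of type `G₂(q)`. -/

set_option autoImplicit false

namespace Cfsg.Agent.G2S

open Cfsg.Agent.BG Subgroup Cfsg.Agent.Syl2.G2

theorem w0_card (C : Type*) : Nat.card (Md C) = 4 * Nat.card C ^ 2 := by
  have e : Md C ≃ C × C × Bool × Bool :=
    ⟨fun x => (x.i, x.j, x.s, x.t), fun x => ⟨x.1, x.2.1, x.2.2.1, x.2.2.2⟩, fun _ => rfl, fun _ => rfl⟩
  rw [Nat.card_congr e, Nat.card_prod, Nat.card_prod, show Nat.card (Bool × Bool) = 4 by simp]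
  ring

theorem w0_cyc {C : Type*} [AddCommGroup C] {h k : C} {π : C →+ ZMod 2} (cd : Md.CD h k π) {N : ℕ}
    (hN : ∀ c : C, 2 ^ N • c = 0) : IsAddCyclic C := by
  obtain ⟨g, hg⟩ : ∃ g, ∀ c, π c = 0 ∨ π c = π g := by
    by_cases H : ∀ c, π c = 0
    · exact ⟨0, fun c => .inl (H c)⟩
    · obtain ⟨g, hg⟩ := not_forall.1 H
      refine ⟨g, fun c => ?_⟩
      generalize π c = a
      generalize π g = b at hg
      revert a b; decide
  have key : ∀ j : ℕ, ∀ c, ∃ (a : ℤ) (d : C), c = a • g + 2 ^ j • d := fun j => by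
    induction j with
    | zero => exact fun c => ⟨0, c, by simp⟩
    | succ j ih =>
      intro c
      obtain ⟨a, d, rfl⟩ := ih c
      rcases hg d with e | e
      · obtain ⟨d', rfl⟩ := cd.par d e
        exact ⟨a, d', by rw [pow_succ, mul_nsmul', two_nsmul]⟩
      · obtain ⟨d', e'⟩ := cd.par (d - g) (by rw [map_sub, e, sub_self])
        refine ⟨a + (2 ^ j : ℕ), d', ?_⟩
        rw [pow_succ, mul_nsmul', two_nsmul, ← e', add_zsmul, natCast_zsmul, nsmul_sub]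
        abel
  refine ⟨g, fun c => ?_⟩
  obtain ⟨a, d, e⟩ := key N c
  exact ⟨a, by rw [e, hN, add_zero]⟩

theorem fg_of_md {G : Type*} [Group G] [Finite G] (S : Sylow 2 G) {C : Type*} [AddCommGroup C] {h k : C}
    {π : C →+ ZMod 2} (cd : Md.CD h k π) (e : Md C ≃* (S : Subgroup G)) :
    ∃ n φ w t, Fg (S : Subgroup G) (2 ^ (n + 2)) φ w t := by
  have := Nat.fact_prime_two
  have cS : #(S : Subgroup G) = 4 * Nat.card C ^ 2 := (Nat.card_congr e.toEquiv).symm.trans (w0_card C)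
  obtain ⟨a, ha⟩ := IsPGroup.iff_card.1 S.2
  obtain ⟨N, -, hN⟩ := (Nat.dvd_prime_pow Nat.prime_two).1
    (show Nat.card C ∣ 2 ^ a from ha ▸ cS ▸ (dvd_pow_self _ two_ne_zero).mul_left _)
  have cyc := w0_cyc cd (N := N) fun c => hN ▸ card_nsmul_eq_zero'
  have ok : addOrderOf k = 2 ^ (1 + 1) := addOrderOf_eq_prime_pow
    (by rw [pow_one, two_nsmul, cd.hk]; exact cd.h0)
    (by rw [pow_succ, pow_one, mul_nsmul, two_nsmul k, cd.hk, two_nsmul]; exact (cd.two h).2 (.inr rfl))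
  have d := addOrderOf_dvd_natCard k
  rw [ok, hN, Nat.pow_dvd_pow_iff_le_right one_lt_two] at d
  obtain ⟨n, rfl⟩ : ∃ n, N = n + 2 := ⟨N - 2, by omega⟩
  let ε : ZMod (2 ^ (n + 2)) ≃+ C := addEquivOfAddCyclicCardEq (by rw [Nat.card_zmod, hN])
  let f : Md C →* G := (S : Subgroup G).subtype.comp e.toMonoidHom
  have fi : Function.Injective f := Subtype.val_injective.comp e.injective
  refine ⟨n, fun v => f ⟨ε v.1, ε v.2, false, false⟩, f ⟨0, 0, false, true⟩, f ⟨0, 0, true, false⟩,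
    sylowIn_top S, fun u v => ?_, fun u v e => ?_, fun x y => ?_, fun v => ?_, ?_, ?_, ?_, fun s => ⟨fun hs => ?_, ?_⟩,
    by rw [cS, hN]⟩
  · rw [← map_mul]; simp [Md.mul_def]
  · have := fi e
    simp only [Md.mk.injEq, EmbeddingLike.apply_eq_iff_eq, and_true] at this
    exact Prod.ext this.1 this.2
  · rw [← map_inv, ← map_mul, ← map_mul]; simp [Md.mul_def, Md.inv_def]
  · rw [← map_inv, ← map_mul, ← map_mul]; simp [Md.mul_def, Md.inv_def]
  · rw [← map_mul, ← map_one f]; simp [Md.mul_def, Md.one_def]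
  · rw [← map_mul, ← map_one f]; simp [Md.mul_def, Md.one_def]
  · rw [← map_mul, ← map_mul]; simp [Md.mul_def]
  · obtain ⟨⟨i, j, a, b⟩, hx⟩ := e.surjective ⟨s, hs⟩
    have hx : s = f ⟨i, j, a, b⟩ := (congrArg Subtype.val hx).symm
    refine ⟨(ε.symm i, ε.symm j), ?_⟩
    simp only [← map_mul, hx]
    cases a <;> cases b <;> simp [Md.mul_def]
  · simp only [← map_mul]
    rintro ⟨v, rfl | rfl | rfl | rfl⟩ <;> exact (e _).2

theorem exists_fg {G : Type*} [Group G] [Finite G] {F : Type*} [Field F] [Fintype F] (hF : Odd (Fintype.card F))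
    (S : Sylow 2 G) (P : Sylow 2 ↥(Cfsg.Lie.chevG2.group F)) (e : S ≃* P) :
    ∃ n φ w t, Fg (S : Subgroup G) (2 ^ (n + 2)) φ w t := by
  obtain ⟨C, h, k, π, cd, ⟨e'⟩, -⟩ := sylow_chev hF P
  exact fg_of_md S cd (e'.trans e.symm)

end Cfsg.Agent.G2S
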