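import Cfsg.Agent.G2S.B
import Cfsg.Agent.ThA.ThB

/-! `W5` for S1744 (with the facts of `W2` as hypotheses): the perfect core of `C(Q₂)`, and `C(Q₂)` is not solvable
when `m ≠ 4`. (helper9) -/

set_option autoImplicit false
set_option linter.unusedSectionVars false

namespace Cfsg.Agent.G2S

open Cfsg.Agent.BG Subgroup
open scoped commutatorElement

variable {G : Type*} [Group G] [Finite G] {S Q₁ Q₂ Y : Subgroup G} {m : ℕ} {φ : ZMod m × ZMod m → G}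
  {w t : G} {q : ZMod m}

theorem w5_sol (h : Group.IsSolvable (ThA.pr Y)) : Group.IsSolvable Y := by
  have e : ThA.pr Y = ⊥ := by
    by_contra n
    exact (sol_der1_proper h n).ne (ThA.pr_perf Y)
  obtain ⟨M, -, ⟨h1, h2⟩, h3⟩ := mingroup_exists (P := fun B => B ≤ Y ∧ (Group.IsSolvable B → Group.IsSolvable Y))
    (A := Y) ⟨le_rfl, id⟩
  have e2 := h3 ⁅M, M⁆ ⟨(der_sub M).trans h1, fun s => h2 (der1_sol s)⟩ (der_sub M)
  have e3 : M = ⊥ := le_bot_iff.1 (e ▸ ThA.le_pr h1 e2)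
  exact h2 (e3 ▸ inferInstance)

theorem Fg.w5_pow (h : Fg S m φ w t) (v : ZMod m × ZMod m) (k : ℕ) : φ v ^ k = φ (k • v) := by
  induction k with
  | zero => simp [h.zero]
  | succ k ih => rw [pow_succ, ih, succ_nsmul, h.add]

theorem Gm.caseA' (h : Gm S m φ w t q Q₁ Q₂) (f3 : ∀ x, IsConj (φ (x + 2 * q, x) * (w * t)) (φ (q, q)))
    (sub : ∀ N : Subgroup G, N.Normal → φ (q, q) ∈ N → Q₁ ≤ N) (cS : S ⊓ C[Q₂] = Q₁) (sc : IsStronglyClosed Q₂ S)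
    (ns : ¬ Group.IsSolvable C[Q₂]) : ∃ K : Subgroup G, K.Normal ∧ K ⊓ S = Q₁ ∧ ¬ IsPGroup 2 K ∧ K ≤ C[Q₂] := by
  have := Nat.fact_prime_two
  have hO : Op' 2 (⊤ : Subgroup G) = ⊥ := (Op'_top 2).trans h.hO
  have hn := ThA.thB (ThA.cl_of_sylow h.syl sc)
  rw [hO, sup_bot_eq] at hn
  have nK : (ThA.pr C[Q₂]).Normal := normalizer_eq_top_iff.1 (top_le_iff.1 hn)
  have n2 : ¬ IsPGroup 2 (ThA.pr C[Q₂]) := fun p => ns (w5_sol (pgroup_sol p))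
  have le : ThA.pr C[Q₂] ⊓ S ≤ Q₁ := cS ▸ le_inf inf_le_right (inf_le_left.trans (ThA.pr_le _))
  refine ⟨_, nK, le.antisymm (le_inf (sub _ nK ?_) (cS ▸ inf_le_left)), n2, ThA.pr_le _⟩
  by_contra ny
  have hs := Sylow_setI_normal (K := ThA.pr C[Q₂]) ⟨le_top, hn⟩ h.syl
  have hc : IsCyclic ↥(ThA.pr C[Q₂] ⊓ S) := by
    obtain ⟨n, hm, -⟩ := h.hm
    have : NeZero m := ⟨by rw [hm]; positivity⟩
    refine cyclicS (B := zpowers (φ (1, 1))) (fun s hs => ?_) inferInstance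
    obtain ⟨x, rfl | rfl⟩ := (h.m1 s).1 (le hs)
    · exact ⟨x.val, by simp only [zpow_natCast]; simp [h.toFg.w5_pow]⟩
    · obtain ⟨g, e⟩ := isConj_iff.1 (f3 x)
      exact absurd (e ▸ nK.conj_mem _ hs.1 g) ny
  have sd := cyclic_pdiv_normal_complement hs (fun r hr _ => hr.two_le) hc
  have o : Op' 2 (ThA.pr C[Q₂]) = ⊥ :=
    le_bot_iff.1 (hO ▸ pcore_max ⟨le_top, norms_pcore _ hn⟩ (pcore_pgroup _ _))
  have e := sd.sup
  rw [o, bot_sup_eq] at e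
  exact n2 (e ▸ hs.pg)

theorem Gm.big' (h : Gm S m φ w t q Q₁ Q₂) (f3 : ∀ x, IsConj (φ (x + 2 * q, x) * (w * t)) (φ (q, q)))
    (cS : Q₁ ≤ C[Q₂]) (sc : IsStronglyClosed Q₂ S) (hm : m ≠ 4) : ¬ Group.IsSolvable C[Q₂] := fun hs => by
  have cl := ThA.cl_of_sylow h.syl sc
  have c1 : ∀ s ∈ Q₁, Q₂ ≤ C1[s] := fun s hs y hy => mem_cent1.2 (cS hs y hy)
  have mb : ∀ x, φ (x + 2 * q, x) * (w * t) ∈ Q₁ := fun x => (h.m1 _).2 ⟨x, .inr rfl⟩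
  have ma : ∀ x, φ (x, x) ∈ Q₁ := fun x => (h.m1 _).2 ⟨x, .inl rfl⟩
  have fus : ∀ x, ∃ k ∈ N[Q₂], k * (φ (x + 2 * q, x) * (w * t)) * k⁻¹ = φ (q, q) := fun x => by
    obtain ⟨g, e⟩ := isConj_iff.1 (f3 x)
    obtain ⟨k, hk, n⟩ := cl.trans (g := g) (c1 _ (ma q)) (by rw [← e, C1_conj]; exact cj_mono g (c1 _ (mb x)))
    refine ⟨_, n, ?_⟩
    calc _ = k * (g * (φ (x + 2 * q, x) * (w * t)) * g⁻¹) * k⁻¹ := by group
      _ = _ := by rw [e, mem_cent1.1 hk]; group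
  obtain ⟨M, hM, ⟨h1, h2⟩, h3⟩ := mingroup_exists (P := fun B => Q₁ ≤ B ∧ N[Q₂] ≤ N[B]) (A := C[Q₂]) ⟨cS, cent_norm _⟩
  have n2 := normsR h2 h2
  have y : φ (q, q) ∈ ⁅M, M⁆ := by
    obtain ⟨n, e1, e2⟩ := h.hm
    obtain ⟨n, rfl⟩ : ∃ k, n = k + 1 := Nat.exists_eq_succ_of_ne_zero (by rintro rfl; exact hm e1)
    have := commutator_mem_commutator (h1 (ma (2 ^ n))) (h1 (mb 0))
    rwa [commutatorElement_def, mul_assoc, mul_assoc, ← mul_assoc _ (φ _)⁻¹, h.toFg.neg, h.toFg.c1 h.toFg.hwt, ← h.add,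
      show ((2 ^ n, 2 ^ n) + -Prod.swap (-(2 ^ n, 2 ^ n)) : ZMod m × ZMod m) = (q, q) by
        ext <;> simp [e2, pow_succ, mul_two]] at this
  have hb : ∀ x, φ (x + 2 * q, x) * (w * t) ∈ ⁅M, M⁆ := fun x => by
    obtain ⟨k, hk, e⟩ := fus x
    simpa [← e, mul_assoc] using conj_mem_of_norm' (n2 hk) y
  have hQ : Q₁ ≤ ⁅M, M⁆ := fun s hs => by
    obtain ⟨x, rfl | rfl⟩ := (h.m1 s).1 hs
    · have := mul_mem (hb x) (inv_mem (hb 0))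
      rwa [mul_inv_rev, mul_assoc, mul_inv_cancel_left, h.toFg.neg, ← h.add,
        show ((x + 2 * q, x) + -(0 + 2 * q, 0) : ZMod m × ZMod m) = (x, x) by ext <;> simp] at this
    · exact hb x
  have e := h3 _ ⟨hQ, n2⟩ (der_sub M)
  refine (sol_der1_proper (solvableS hM hs) ?_).ne e
  rintro rfl
  exact h.toFg.z1 h.qd (mem_bot.1 (h1 (ma _)))

end Cfsg.Agent.G2S
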