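import Cfsg.Agent.G2S.W2
import Cfsg.Agent.G2S.W5a

/-! `W5` for S1744. (helper9) -/

set_option autoImplicit false

namespace Cfsg.Agent.G2S

open Cfsg.Agent.BG Subgroup

variable {G : Type*} [Group G] [Finite G] {S Q₁ Q₂ : Subgroup G} {m : ℕ} {φ : ZMod m × ZMod m → G}
  {w t : G} {q : ZMod m}

theorem Gm.caseA (h : Gm S m φ w t q Q₁ Q₂) (ns : ¬ Group.IsSolvable C[Q₂]) :
    ∃ K : Subgroup G, K.Normal ∧ K ⊓ S = Q₁ ∧ ¬ IsPGroup 2 K ∧ K ≤ C[Q₂] :=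
  h.caseA' h.f3 (fun N _ => h.sub N) h.cS h.sym.sc ns

theorem Gm.big (h : Gm S m φ w t q Q₁ Q₂) (hm : m ≠ 4) : ¬ Group.IsSolvable C[Q₂] :=
  h.big' h.f3 (h.cS ▸ inf_le_right) h.sym.sc hm

end Cfsg.Agent.G2S
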