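import Cfsg.Agent.G2S.B
import Cfsg.Agent.M12S.T3b

/-! Sylow 2-subgroup of type `G₂(q)` of order 64: the solvable case (helper12). -/

set_option autoImplicit false
set_option linter.unusedSectionVars false
set_option synthInstance.maxSize 100000
set_option synthInstance.maxHeartbeats 400000

namespace Cfsg.Agent.G2S

open Cfsg.Agent.BG Subgroup
open Cfsg.Agent.M12S (Md mz ma mw mu Fm ap t4a sub ap_symm ap_trans)
open scoped commutatorElement
open Cfsg.Agent.HJS (cmul cinj gold_omega le_Op')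

variable {G : Type*} [Group G] [Finite G] {f : Md →* G}

theorem w6a : ∀ c : Md, (ap (c * c * (c * c) * (c * c * (c * c))) 1) ∧ (ap c 1 ↔ c = 1 ∨ c = mz) := by decide +kernel

theorem w6_le_z (F : Fm f) (hz : ∀ g : G, g * f mz * g⁻¹ = f mz) (hO : pPrimeCore 2 G = ⊥) (Y : Subgroup G) [Y.Normal]
    (h : ∀ c : Md, f c ∈ Y → c = 1 ∨ c = mz) {y : G} (hy : y ∈ Y) : y = 1 ∨ y = f mz := by
  have := Nat.fact_prime_two
  have h1 : ∀ y ∈ Y ⊓ f.range, y = 1 ∨ y = f mz := fun y hy => by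
    obtain ⟨h2, c, rfl⟩ := mem_inf.1 hy
    exact (h c h2).imp (fun e => by rw [e, map_one]) fun e => by rw [e]
  have h2 := Burnside_normal_complement (Sylow_setI_normal (normal_top Y) F.syl) fun g _ y hy => by
    rcases h1 y hy with rfl | rfl
    · simp
    · exact (mul_inv_eq_iff_eq_mul.1 (hz g)).symm
  have h3 : Op' 2 Y = ⊥ := le_bot_iff.1 (hO ▸ Op'_top (G := G) 2 ▸ pcoreS_normal _ (normal_top Y))
  have h4 := h2.sup
  rw [h3, bot_sup_eq] at h4
  exact h1 y (h4.ge hy)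

theorem w6_normal (F : Fm f) (hz : ∀ g : G, g * f mz * g⁻¹ = f mz) (hO : pPrimeCore 2 G = ⊥) {A B : Subgroup Md}
    (zA : mz ∈ A) (zB : mz ∈ B) (sA : ∀ a ∈ A, ap (a * a) 1 ∧ ∀ b ∈ A, ap (a * b) (b * a))
    (sB : ∀ a ∈ B, ap (a * a) 1 ∧ ∀ b ∈ B, ap (a * b) (b * a)) (AB : ∀ p, p ∈ A → p ∈ B → ap p 1)
    (cB : ∀ p, (∀ b ∈ B, ap (p * b * p⁻¹) b) → ap (p * p) 1)
    (scA : IsStronglyClosed (A.map f) f.range) (scB : IsStronglyClosed (B.map f) f.range)
    (s2 : Group.IsSolvable C[B.map f]) : (A.map f).Normal := by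
  have := Nat.fact_prime_two
  have z2 : f mz * f mz = 1 := by rw [← map_mul, show mz * mz = 1 by decide, map_one]
  have mz' : ∀ {y : G}, y ∈ zpowers (f mz) → y = 1 ∨ y = f mz := fun hy =>
    (LES.mem_zp (Invol.orderOf_two_iff.2 ⟨z2, fun c => absurd (F.one.1 c) (by decide)⟩)).1 hy
  have hZ : (zpowers (f mz)).Normal := ⟨fun n hn g => by
    rcases mz' hn with rfl | rfl
    · simp
    · rw [hz]; exact mem_zpowers _⟩
  let ρ := QuotientGroup.mk' (zpowers (f mz))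
  have hρ : Function.Surjective ρ := QuotientGroup.mk'_surjective _
  have kρ : ρ.ker = zpowers (f mz) := QuotientGroup.ker_mk' _
  have ρz : ρ (f mz) = 1 := (QuotientGroup.eq_one_iff _).2 (mem_zpowers _)
  have ρe : ∀ {a b : G}, ρ a = ρ b → a = b ∨ a = b * f mz := fun {a b} h => by
    rcases mz' (QuotientGroup.eq.1 h.symm) with h | h
    · exact .inl (inv_mul_eq_one.1 h).symm
    · exact .inr (inv_mul_eq_iff_eq_mul.1 h)
  have ρa : ∀ {a b : Md}, ρ (f a) = ρ (f b) ↔ ap a b := fun {a b} =>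
    ⟨fun h => (ρe h).imp F.eq.1 fun e => F.eq.1 (by rw [e, map_mul]), fun h => by
      rcases h with rfl | rfl
      · rfl
      · rw [map_mul, map_mul, ρz, mul_one]⟩
  have ρ1 : ∀ {a : Md}, ρ (f a) = 1 ↔ ap a 1 := fun {a} => by rw [← ρa, map_one, map_one]
  have cQ : ∀ {A : Subgroup Md}, mz ∈ A → ∀ {a : G}, ρ a ∈ (A.map f).map ρ ↔ a ∈ A.map f := fun h a => by
    rw [← mem_comap, comap_map_eq_self (kρ.le.trans (zpowers_le.2 (mem_map_of_mem f h)))]
  obtain ⟨S₀, hS₀⟩ := sylow_of_sylowIn_top F.syl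
  let S := S₀.mapSurjective hρ
  have hS : (S : Subgroup _) = f.range.map ρ := by rw [← hS₀]; exact Sylow.coe_mapSurjective hρ S₀
  have mS : ∀ {y}, y ∈ (S : Subgroup _) → ∃ c, y = ρ (f c) := fun hy => by
    rw [hS] at hy
    obtain ⟨-, ⟨c, rfl⟩, rfl⟩ := hy
    exact ⟨c, rfl⟩
  have cm : ∀ {A : Subgroup Md}, (∀ a ∈ A, ap (a * a) 1 ∧ ∀ b ∈ A, ap (a * b) (b * a)) →
      (A.map f).map ρ ≤ C[(A.map f).map ρ] := fun sA => by
    rintro - ⟨-, ⟨a, ha, rfl⟩, rfl⟩ - ⟨-, ⟨b, hb, rfl⟩, rfl⟩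
    simp only [← map_mul]
    exact ρa.2 ((sA b hb).2 a ha)
  have gold : ∀ {A : Subgroup Md}, mz ∈ A → (∀ a ∈ A, ap (a * a) 1 ∧ ∀ b ∈ A, ap (a * b) (b * a)) →
      IsStronglyClosed (A.map f) f.range → ∀ c, ρ (f c) ∈ normalClosure (((A.map f).map ρ : Subgroup _) : Set _) →
        ap (c * c) 1 → c ∈ A := fun {A} zA sA sc c hc c2 => by
    refine F.mem.1 ((cQ zA).1 (gold_omega S _ (le_centralizer_iff_isMulCommutative.1 (cm sA))
      ⟨hS ▸ map_mono sc.1, ?_⟩ ?_ (hS ▸ ⟨_, ⟨c, rfl⟩, rfl⟩) hc (by rw [pow_two, ← map_mul, ← map_mul, ρ1.2 c2])))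
    · rintro - ⟨a, ha, rfl⟩ g hg
      obtain ⟨g, rfl⟩ := hρ g
      rw [← map_inv, ← map_mul, ← map_mul] at hg ⊢
      obtain ⟨c, e⟩ := mS hg
      refine mem_map_of_mem ρ (sc.2 a ha g ?_)
      rcases ρe e with h | h <;> rw [h]
      · exact ⟨c, rfl⟩
      · exact ⟨c * mz, map_mul _ _ _⟩
    · rintro - ⟨-, ⟨a, ha, rfl⟩, rfl⟩
      rw [pow_two, ← map_mul, ← map_mul, ρ1.2 (sA a ha).1]
  have hO' : pPrimeCore 2 (G ⧸ zpowers (f mz)) = ⊥ := eq_bot_iff.2 fun y hy => by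
    obtain ⟨y, rfl⟩ := hρ y
    refine (w6_le_z F hz hO ((pPrimeCore 2 _).comap ρ) (fun c hc => ?_) hy).elim (fun e => by simp [e])
      fun e => e ▸ ρz
    have h1 : orderOf (ρ (f c)) ∣ 2 ^ 3 := orderOf_dvd_of_pow_eq_one (by
      rw [← map_pow, ← map_pow, show c ^ 2 ^ 3 = 1 from (t4a c).2.1, map_one, map_one])
    exact (w6a c).2.1 (ρ1.1 (orderOf_eq_one_iff.1 (Nat.eq_one_of_dvd_coprimes
      ((Solv.coprime_card_pPrimeCore 2 _).pow_right 3) (Subgroup.orderOf_dvd_natCard _ hc) h1)))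
  have hO2 : ∀ K : Subgroup (G ⧸ zpowers (f mz)), K.Normal → Op' 2 K = ⊥ := fun K _ =>
    le_bot_iff.1 (hO' ▸ Op'_top (G := G ⧸ zpowers (f mz)) 2 ▸ pcoreS_normal _ (normal_top K))
  have gA := gold zA sA scA
  have gB := gold zB sB scB
  set K := normalClosure (((A.map f).map ρ : Subgroup _) : Set (G ⧸ zpowers (f mz)))
  set L := normalClosure (((B.map f).map ρ : Subgroup _) : Set (G ⧸ zpowers (f mz)))
  have AK : (A.map f).map ρ ≤ K := le_normalClosure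
  have BL : (B.map f).map ρ ≤ L := le_normalClosure
  have hKL : K ⊓ L = ⊥ := by
    have h1 : ∀ c, ρ (f c) ∈ K ⊓ L → ap (c * c) 1 → ap c 1 := fun c h c2 => AB c (gA c h.1 c2) (gB c h.2 c2)
    have h2 : ∀ {c}, ρ (f c) ∈ K ⊓ L → ρ (f (c * c)) ∈ K ⊓ L := fun h => by rw [map_mul, map_mul]; exact mul_mem h h
    have h3 : K ⊓ L ⊓ S = ⊥ := eq_bot_iff.2 fun y hy => by
      obtain ⟨c, rfl⟩ := mS hy.2
      exact ρ1.2 (h1 c hy.1 (h1 _ (h2 hy.1) (h1 _ (h2 (h2 hy.1)) (w6a c).1)))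
    have h4 := (Sylow_setI_normal (normal_top (K ⊓ L)) (sylowIn_top S)).not_dvd
    rw [h3, relIndex_bot_left] at h4
    exact le_bot_iff.1 ((le_Op' (normal_refl _) (Nat.odd_iff.2 (Nat.two_dvd_ne_zero.1 h4))).trans (hO2 (K ⊓ L) inferInstance).le)
  have cKL : ∀ k : G, ρ k ∈ K → ∀ b ∈ B, k * f b * k⁻¹ = f b ∨ k * f b * k⁻¹ = f b * f mz := fun k hk b hb => ρe (by
    rw [map_mul, map_mul, map_inv, (commute_of_normal_of_disjoint K L inferInstance inferInstance (disjoint_iff.2 hKL) _ _ hk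
      (BL (mem_map_of_mem ρ (mem_map_of_mem f hb)))).eq, mul_inv_cancel_right])
  have sK : Group.IsSolvable K := by
    rw [← map_comap_eq_self_of_surjective hρ K]
    refine solvable_map ρ (der1_sol (solvableS (commutator_le.2 fun x hx y hy => ?_) s2))
    rintro - ⟨b, hb, rfl⟩
    have e : x * y * f b * (x * y)⁻¹ = y * x * f b * (y * x)⁻¹ := by
      rw [show x * y * f b * (x * y)⁻¹ = x * (y * f b * y⁻¹) * x⁻¹ by group,
        show y * x * f b * (y * x)⁻¹ = y * (x * f b * x⁻¹) * y⁻¹ by group]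
      rcases cKL x hx b hb with e | e <;> rcases cKL y hy b hb with e' | e' <;> simp only [e, e', cmul, hz]
    have e' := cKL _ (show ρ (y * x) ∈ K by rw [map_mul]; exact mul_mem hy hx) b hb
    have e2 : ∀ u : G, x * y * u * (x * y)⁻¹ = y * x * u * (y * x)⁻¹ → ⁅x, y⁆ * (y * x * u * (y * x)⁻¹) * ⁅x, y⁆⁻¹ =
        y * x * u * (y * x)⁻¹ := fun u h => by rw [commutatorElement_def]; conv_rhs => rw [← h]
                                               group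
    have e3 := e2 _ e
    rw [eq_comm, ← mul_inv_eq_iff_eq_mul]
    rcases e' with e' | e' <;> rw [e'] at e3
    · exact e3
    · rw [cmul, hz] at e3; exact mul_right_cancel e3
  have hKS : K ⊓ S = (A.map f).map ρ := le_antisymm (fun y hy => by
    obtain ⟨c, rfl⟩ := mS hy.2
    refine mem_map_of_mem ρ (mem_map_of_mem f (gA c hy.1 (cB c fun b hb => ?_)))
    exact (cKL _ hy.1 b hb).imp (fun e => F.eq.1 (by simpa using e)) fun e => F.eq.1 (by simpa using e))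
    (le_inf AK (hS ▸ map_mono scA.1))
  have hSyl : SylowIn 2 ((A.map f).map ρ) K := hKS ▸ Sylow_setI_normal (normal_top K) (sylowIn_top S)
  have h5 : Op 2 K ≤ (A.map f).map ρ := pcore_sub_Hall hSyl
  have h6 : (A.map f).map ρ ≤ Op 2 K :=
    (le_inf AK ((cm sA).trans (centS h5))).trans (cent_sub_pcore sK (hO2 K inferInstance))
  have h7 := ((normal_top K).pcore {2}).normal
  exact ⟨fun n hn g => (cQ zA).1 (by
    rw [map_mul, map_mul, map_inv]; exact h5 (h7.conj_mem _ (h6 ((cQ zA).2 hn)) _))⟩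

/-- first quaternion group -/
def mA : Subgroup Md := sub (fun p => p.i = p.j ∧ p.x = p.y + if p.i then 2 else 0) (by decide) (by decide +kernel)
/-- second quaternion group -/
def mB : Subgroup Md := sub (fun p => p.j = false ∧ p.x = -p.y + if p.i then 2 else 0) (by decide) (by decide +kernel)
theorem mem_mA {p : Md} : p ∈ mA ↔ p.i = p.j ∧ p.x = p.y + if p.i then 2 else 0 := Iff.rfl
theorem mem_mB {p : Md} : p ∈ mB ↔ p.j = false ∧ p.x = -p.y + if p.i then 2 else 0 := Iff.rfl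
instance instDecMAw6 : DecidablePred (· ∈ mA) := fun _ => decidable_of_iff' _ mem_mA
instance instDecMBw6 : DecidablePred (· ∈ mB) := fun _ => decidable_of_iff' _ mem_mB

/-- the cyclic subgroup of `mB` -/
def mC : Subgroup Md := sub (fun p => p.i = false ∧ p.j = false ∧ p.x = -p.y) (by decide) (by decide +kernel)
theorem mem_mC {p : Md} : p ∈ mC ↔ p.i = false ∧ p.j = false ∧ p.x = -p.y := Iff.rfl
instance instDecMCw6 : DecidablePred (· ∈ mC) := fun _ => decidable_of_iff' _ mem_mC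
theorem w6d : ∀ k : Md, k * (mw * M12S.mt) * k⁻¹ ≠ ma ∧ ap (k * ⟨1, 3, false, false⟩ * k⁻¹) ⟨1, 3, false, false⟩ ∧
    (k ∈ mC → (k * k = mz → ap k ⟨1, 3, false, false⟩) ∧
      (k = 1 ∨ k = mz ∨ k = ⟨1, 3, false, false⟩ ∨ k = ⟨1, 3, false, false⟩ * mz)) ∧
    (ap k ⟨1, 3, false, false⟩ → k ∈ mC ∧ k * mz ∈ mC) := by decide +kernel
theorem w6b : ∀ a' ∈ mA, ∀ c' ∈ mB, a' * c' = ma → ap c' ⟨1, 3, false, false⟩ := by decide +kernel
theorem w6c : ∀ x ∈ mB, ¬ ap x 1 → ¬ ap x ⟨1, 3, false, false⟩ → ∀ y ∈ mB, ¬ ap y 1 → ¬ ap y ⟨1, 3, false, false⟩ →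
    ∀ w ∈ mB, ¬ ap w 1 → ¬ ap w ⟨1, 3, false, false⟩ → ap x y ∨ ap y w ∨ ap x w := by decide +kernel

theorem w6_not (F : Fm f) (hz : ∀ g : G, g * f mz * g⁻¹ = f mz) (nA : (mA.map f).Normal) (nB : (mB.map f).Normal)
    (hc : IsConj (f (mw * M12S.mt)) (f ma)) : ¬ IsPGroup 2 C[mB.map f] := fun hp => by
  have := Nat.fact_prime_two
  let c : Md := ⟨1, 3, false, false⟩
  have zH : ∀ g : G, g ∈ C1[f mz] := fun g => mem_cent1.2 (mul_inv_eq_iff_eq_mul.1 (hz g))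
  have tB : ∀ (g : G), ∀ x ∈ mB, ∃ y ∈ mB, g * f x * g⁻¹ = f y := fun g x hx =>
    (nB.conj_mem _ (mem_map_of_mem f hx) g).imp fun _ h => ⟨h.1, h.2.symm⟩
  have n1 : ∀ m : G, m * f 1 * m⁻¹ = f 1 := by simp
  have zp : ∀ {g : G} {c' : Md}, ap c' c → g * f c * g⁻¹ = f c' → g ∈ N[mC.map f] :=
    fun {g c'} h e => mem_norm_of_cj_le (by
      rintro - ⟨-, ⟨p, hp, rfl⟩, rfl⟩
      rcases ((w6d p).2.2.1 hp).2 with rfl | rfl | rfl | rfl
      · simp
      · exact ⟨mz, show mz ∈ mC by decide, (hz g).symm⟩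
      · exact ⟨_, ((w6d c').2.2.2 h).1, e.symm⟩
      · exact ⟨_, ((w6d c').2.2.2 h).2, (F.tr_mul e (hz g)).symm⟩)
  have hD : IsPGroup 2 N[mC.map f] := fun ⟨g, hg⟩ => by
    obtain ⟨c', hc', e⟩ := tB g c (by decide)
    have h1 : ap c' c := by
      have h2 := conj_mem_of_norm hg (mem_map_of_mem f (show c ∈ mC by decide))
      rw [e, F.mem] at h2
      exact ((w6d c').2.2.1 h2).1 ((F.tr_eq (F.tr_mul e e) (hz g)).2 (by decide))
    have h2 : ∀ x ∈ mB, ∃ w, ap w x ∧ g * g * f x * (g * g)⁻¹ = f w := fun x hx => by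
      obtain ⟨y, hy, ey⟩ := tB g x hx
      obtain ⟨w, hw, ew⟩ := tB g y hy
      by_cases c1 : ap x 1
      · exact ⟨w, ap_trans ((F.tr_ap (zH g) ew (n1 g)).2 ((F.tr_ap (zH g) ey (n1 g)).2 c1)) (ap_symm c1), F.tr_comp ey ew⟩
      by_cases c2 : ap x c
      · exact ⟨w, ap_trans (ap_trans ((F.tr_ap (zH g) ew e).2 (ap_trans ((F.tr_ap (zH g) ey e).2 c2) h1)) h1) (ap_symm c2),
          F.tr_comp ey ew⟩
      exact F.two (zH g) (fun x => x ∈ mB ∧ ¬ ap x 1 ∧ ¬ ap x c) (fun x hx => by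
        obtain ⟨y, hy, ey⟩ := tB g x hx.1
        exact ⟨y, ⟨hy, mt (F.tr_ap (zH g) ey (n1 g)).1 hx.2.1,
          fun c => hx.2.2 ((F.tr_ap (zH g) ey e).1 (ap_trans c (ap_symm h1)))⟩, ey⟩)
        (fun x hx y hy w hw => w6c x hx.1 hx.2.1 hx.2.2 y hy.1 hy.2.1 hy.2.2 w hw.1 hw.2.1 hw.2.2) ⟨hx, c1, c2⟩
    have h3 : g * g * (g * g) ∈ C[mB.map f] := by
      rintro - ⟨q, hq, rfl⟩
      rw [eq_comm, ← mul_inv_eq_iff_eq_mul]
      obtain ⟨w, rfl | rfl, h⟩ := h2 q hq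
      · exact F.tr_comp h h
      · have h4 := F.tr_mul h (hz _)
        rw [mul_assoc q, show mz * mz = 1 by decide, mul_one] at h4
        exact F.tr_comp h h4
    obtain ⟨k, hk⟩ := hp ⟨_, h3⟩
    refine ⟨k + 2, Subtype.ext ?_⟩
    have := congrArg Subtype.val hk
    simp only [coe_pow, coe_one] at this ⊢
    rw [pow_add, mul_comm, pow_mul, ← this]
    congr 1
    simp [pow_succ, mul_assoc]
  have hT : f.range ≤ N[mC.map f] := by
    rintro - ⟨k, rfl⟩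
    exact zp (w6d k).2.1 (by simp [c])
  obtain ⟨g, e⟩ := isConj_iff.1 hc
  obtain ⟨a', ha', ea⟩ := nA.conj_mem _ (mem_map_of_mem f (show (mw * M12S.mt * c⁻¹) ∈ mA by decide)) g
  obtain ⟨c', hc', ec⟩ := tB g c (by decide)
  have h1 := F.tr_mul ea.symm ec
  rw [inv_mul_cancel_right, e, F.eq] at h1
  obtain ⟨k, rfl⟩ := (Hall_max F.syl hT le_top hD.pi).le (zp (w6b a' ha' c' hc' h1.symm) ec)
  rw [← map_inv, ← map_mul, ← map_mul, F.eq] at e
  exact (w6d k).1 e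

variable {S Q₁ Q₂ : Subgroup G} {m : ℕ} {φ : ZMod m × ZMod m → G} {w t : G} {q : ZMod m}

/-- `sc1`, `sc2` are `h.sc` and `h.sym.sc`. -/
theorem Gm.caseB' (h : Gm S m φ w t q Q₁ Q₂) (sc1 : IsStronglyClosed Q₁ S) (sc2 : IsStronglyClosed Q₂ S) (hm : m = 4)
    (s1 : Group.IsSolvable C[Q₁]) (s2 : Group.IsSolvable C[Q₂]) : Q₁.Normal ∧ ¬ IsPGroup 2 C[Q₂] := by
  have := Nat.fact_prime_two
  subst hm
  obtain rfl : q = 1 := by
    obtain ⟨n, h1, h2⟩ := h.hm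
    obtain rfl : n = 0 := by
      have := Nat.pow_right_injective (le_refl 2) (show 2 ^ 2 = 2 ^ (n + 2) from h1)
      omega
    simpa using h2
  have k : ∀ {r : G} {ρ : ZMod 4 × ZMod 4 → ZMod 4 × ZMod 4}, (∀ v, r * φ v * r⁻¹ = φ (ρ v)) → ∀ v v' r',
      φ v * r * (φ v' * r') = φ (v + ρ v') * (r * r') := fun hr v v' r' => by rw [h.add, ← hr]; group
  have w2 : ∀ g, w * (w * g) = g := fun g => by rw [← mul_assoc, h.w2, one_mul]
  have t2 : ∀ g, t * (t * g) = g := fun g => by rw [← mul_assoc, h.t2, one_mul]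
  have tw : ∀ g, t * (w * g) = w * (t * g) := fun g => by rw [← mul_assoc, ← h.wt, mul_assoc]
  let f : Md →* G := MonoidHom.mk' (fun p => φ (p.x, p.y) * (if p.i then (if p.j then w * t else w) else
      (if p.j then t else 1))) (by
    rintro ⟨x, y, i, j⟩ ⟨x', y', i', j'⟩
    change φ (x + M12S.sg j (if i then y' else x'), y + M12S.sg j (if i then x' else y')) *
      (if xor i i' then (if xor j j' then w * t else w) else (if xor j j' then t else 1)) = _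
    cases i <;> cases j <;> simp only [Bool.false_eq_true, if_false, if_true]
    · rw [k h.h1]; cases i' <;> cases j' <;> simp [M12S.sg]
    · rw [k h.ht]; cases i' <;> cases j' <;> simp [M12S.sg, h.t2, ← h.wt, tw]
    · rw [k h.hw']; cases i' <;> cases j' <;> simp [M12S.sg, h.w2, w2]
    · rw [k h.hwt]; cases i' <;> cases j' <;> simp [M12S.sg, h.t2, h.w2, mul_assoc, ← h.wt, tw, w2])
  have f0 : ∀ x y, f ⟨x, y, false, false⟩ = φ (x, y) := fun x y => mul_one _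
  have f1 : ∀ x y, f ⟨x, y, true, false⟩ = φ (x, y) * w := fun x y => rfl
  have f2 : ∀ x y, f ⟨x, y, false, true⟩ = φ (x, y) * t := fun x y => rfl
  have f3 : ∀ x y, f ⟨x, y, true, true⟩ = φ (x, y) * (w * t) := fun x y => rfl
  have hr : f.range = S := Subgroup.ext fun s => by
    rw [h.mem]
    refine ⟨?_, ?_⟩
    · rintro ⟨⟨x, y, _ | _, _ | _⟩, rfl⟩
      exacts [⟨_, .inl (f0 x y)⟩, ⟨_, .inr (.inr (.inl rfl))⟩, ⟨_, .inr (.inl rfl)⟩, ⟨_, .inr (.inr (.inr rfl))⟩]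
    · rintro ⟨⟨x, y⟩, rfl | rfl | rfl | rfl⟩
      exacts [⟨_, f0 x y⟩, ⟨_, f1 x y⟩, ⟨_, f2 x y⟩, ⟨_, f3 x y⟩]
  have F : Fm f := ⟨by
    have := (Nat.bijective_iff_surjective_and_card f.rangeRestrict).2 ⟨f.rangeRestrict_surjective, by
      rw [hr, h.card, M12S.card_Md]; rfl⟩
    exact fun a b e => this.1 (Subtype.ext e), hr ▸ h.syl⟩
  have hA : mA.map f = Q₁ := Subgroup.ext fun s => by
    rw [h.m1]
    refine ⟨?_, ?_⟩
    · rintro ⟨⟨x, y, i, j⟩, ⟨e0, e⟩, rfl⟩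
      obtain rfl : i = j := e0
      cases i <;> simp only [Bool.false_eq_true, if_false, if_true, add_zero] at e <;> subst e
      exacts [⟨_, .inl (f0 _ _)⟩, ⟨y, .inr (by rw [f3, mul_one])⟩]
    · rintro ⟨x, rfl | rfl⟩
      exacts [⟨⟨x, x, false, false⟩, ⟨rfl, by simp⟩, f0 _ _⟩, ⟨⟨x + 2, x, true, true⟩, ⟨rfl, by simp⟩, by rw [f3, mul_one]⟩]
  have hB : mB.map f = Q₂ := Subgroup.ext fun s => by
    rw [h.m2]
    refine ⟨?_, ?_⟩
    · rintro ⟨⟨x, y, i, j⟩, ⟨rfl, e⟩, rfl⟩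
      cases i <;> simp only [Bool.false_eq_true, if_false, if_true, add_zero] at e <;> subst e
      exacts [⟨-y, .inl (by rw [f0, neg_neg])⟩, ⟨-y, .inr (by rw [f1, mul_one, neg_neg])⟩]
    · rintro ⟨x, rfl | rfl⟩
      exacts [⟨⟨x, -x, false, false⟩, ⟨rfl, by simp⟩, f0 _ _⟩,
        ⟨⟨x + 2, -x, true, false⟩, ⟨rfl, by simp⟩, by rw [f1, mul_one]⟩]
  have hz : ∀ g : G, g * f mz * g⁻¹ = f mz := fun g => by
    rw [mul_inv_eq_iff_eq_mul, show f mz = φ (2 * 1, 2 * 1) from f0 _ _]; exact h.zcen g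
  have hO := h.hO
  rw [← hA, ← hr] at sc1
  rw [← hB, ← hr] at sc2
  rw [← hA] at s1 ⊢
  rw [← hB] at s2 ⊢
  have nA := w6_normal F hz hO (A := mA) (B := mB) (by decide) (by decide) (by decide +kernel) (by decide +kernel)
    (by decide +kernel) (by decide +kernel) sc1 sc2 s2
  have nB := w6_normal F hz hO (A := mB) (B := mA) (by decide) (by decide) (by decide +kernel) (by decide +kernel)
    (by decide +kernel) (by decide +kernel) sc2 sc1 s1
  refine ⟨nA, w6_not F hz nA nB ?_⟩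
  rw [show f (mw * M12S.mt) = w * t from (f3 0 0).trans (by rw [show ((0, 0) : ZMod 4 × ZMod 4) = 0 from rfl, h.zero, one_mul]),
    show f ma = φ (2 * 1, 0) from f0 _ _]
  exact h.fwt

end Cfsg.Agent.G2S
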